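import Mathlib
import Groth.Prelude.Def_NonAbH1
import Groth.Agent.TorsFpqcLib.Basic
import Groth.Agent.AlgSpLib.AffineDescent
import Groth.Agent.S0412

/-!
# Torsors over a power series ring
-/

set_option autoImplicit false
set_option backward.isDefEq.respectTransparency false
universe u

open CategoryTheory CategoryTheory.Limits MonoidalCategory CartesianMonoidalCategory MonObj AlgebraicGeometry PowerSeries
open NonAbH1

noncomputable section

namespace TorsPSLib

theorem isAdicComplete_X (R : Type u) [CommRing R] :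
    IsAdicComplete (Ideal.span {(PowerSeries.X : R⟦X⟧)}) R⟦X⟧ :=
  { haus' := fun x hx => by
      refine PowerSeries.ext fun n => ?_
      have h := hx (n + 1)
      rw [SModEq.zero, Ideal.smul_eq_mul, Ideal.mul_top, Ideal.span_singleton_pow, Ideal.mem_span_singleton,
        PowerSeries.X_pow_dvd_iff] at h
      simpa using h n (by omega)
    prec' := fun f hf => by
      refine ⟨PowerSeries.mk fun n => PowerSeries.coeff n (f (n + 1)), fun n => ?_⟩
      rw [SModEq.sub_mem, Ideal.smul_eq_mul, Ideal.mul_top, Ideal.span_singleton_pow, Ideal.mem_span_singleton,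
        PowerSeries.X_pow_dvd_iff]
      intro m hm
      have h := hf (show m + 1 ≤ n by omega)
      rw [SModEq.sub_mem, Ideal.smul_eq_mul, Ideal.mul_top, Ideal.span_singleton_pow, Ideal.mem_span_singleton,
        PowerSeries.X_pow_dvd_iff] at h
      have h' := h m (by omega)
      rw [map_sub, sub_eq_zero] at h'
      rw [map_sub, PowerSeries.coeff_mk, h', sub_self] }

theorem exists_lift {A B T : Type u} [CommRing A] [CommRing B] [CommRing T] (φ : A →+* B) (hφ : φ.Smooth)
    (χ : A →+* T) (I : Ideal T) [IsAdicComplete I T] (q : B →+* T ⧸ I)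
    (h : q.comp φ = (Ideal.Quotient.mk I).comp χ) : ∃ ψ : B →+* T, ψ.comp φ = χ := by
  let _ := φ.toAlgebra
  let _ := χ.toAlgebra
  have : Algebra.Smooth A B := hφ
  obtain ⟨σ, -⟩ := Algebra.FormallySmooth.exists_mkₐ_comp_eq_of_isAdicComplete
    (R := A) (A := B) (S := T) (I := I) ⟨q, fun r => RingHom.congr_fun h r⟩
  exact ⟨σ.toRingHom, RingHom.ext fun r => σ.commutes r⟩

theorem exists_etale_cover {X : Scheme.{u}} (R : Type u) [CommRing R] (f : X ⟶ Spec (CommRingCat.of R))
    [Smooth f] [Surjective f] :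
    ∃ (R' : Type u) (_ : CommRing R') (_ : Algebra R R'), Algebra.Etale R R' ∧ Module.FaithfullyFlat R R' ∧
      ∃ h : Spec (CommRingCat.of R') ⟶ X, h ≫ f = Spec.map (CommRingCat.ofHom (algebraMap R R')) := by
  classical
  choose S' g s' hg hgs h hh using fun s => Groth.Agent.S0412.result f s (f.surjective s)
  choose V hV hsV using fun s => exists_isAffineOpen_mem_and_subset (x := s' s) (U := (⊤ : (S' s).Opens)) trivial
  have : ∀ s, Etale (g s) := hg
  obtain ⟨t, ht⟩ := isCompact_univ.elim_finite_subcover (fun s => Set.range ((V s).ι ≫ g s))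
    (fun s => ((V s).ι ≫ g s).isOpenMap.isOpen_range) (fun s _ => Set.mem_iUnion.2 ⟨s, ⟨⟨s' s, (hsV s).1⟩, hgs s⟩⟩)
  let Y : t → Scheme.{u} := fun k => (V k.1).toScheme
  have : ∀ k, IsAffine (Y k) := fun k => hV k.1
  let W := ∐ Y
  have : IsAffine W := inferInstanceAs (IsAffine (∐ Y))
  let w : W ⟶ Spec (CommRingCat.of R) := Sigma.desc fun k => (V k.1).ι ≫ g k.1
  have hwe : Etale w := IsZariskiLocalAtSource.of_openCover (sigmaOpenCover Y) fun k => by
    change Etale (Sigma.ι Y k ≫ Sigma.desc _)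
    rw [Sigma.ι_desc]
    infer_instance
  have hws : Surjective w := ⟨fun s => by
    obtain ⟨i, hi, x, hx⟩ := Set.mem_iUnion₂.1 (ht (Set.mem_univ s))
    refine ⟨Sigma.ι Y ⟨i, hi⟩ x, ?_⟩
    rw [← Scheme.Hom.comp_apply, Sigma.ι_desc]
    exact hx⟩
  let R' := Γ(W, ⊤)
  let e : CommRingCat.of R ⟶ R' := Spec.preimage (W.isoSpec.inv ≫ w)
  have he : Spec.map e = W.isoSpec.inv ≫ w := Spec.map_preimage _
  let _ : Algebra R R' := e.hom.toAlgebra
  have he1 : Etale (Spec.map e) := he ▸ inferInstance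
  have he2 : Surjective (Spec.map e) := he ▸ inferInstance
  have hff : e.hom.FaithfullyFlat := (flat_and_surjective_SpecMap_iff e).1 ⟨inferInstance, he2⟩
  refine ⟨R', inferInstance, e.hom.toAlgebra, (HasRingHomProperty.Spec_iff (P := @Etale)).1 he1, hff,
    W.isoSpec.inv ≫ Sigma.desc (fun k => (V k.1).ι ≫ h k.1), ?_⟩
  change _ = Spec.map e
  rw [he, Category.assoc]
  congr 1
  exact Sigma.hom_ext _ _ fun k => by simp [w, hh]

variable (R : Type u) [CommRing R]

theorem main (G : Over (Spec (CommRingCat.of R⟦X⟧))) [GrpObj G] [IsAffine G.left] [Smooth G.hom]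
    (P : Over (Spec (CommRingCat.of R⟦X⟧))) (a : AlgGrp.Action G P)
    (hP : NonAbH1.IsTorsorFor Scheme.fpqcPrecoverage a) :
    ∃ (R' : Type u) (_ : CommRing R') (_ : Algebra R R'),
      Algebra.Etale R R' ∧ Module.FaithfullyFlat R R' ∧
      NonAbH1.HasSectionOver P (Spec.map (CommRingCat.ofHom (PowerSeries.map (algebraMap R R')))) := by
  have : Smooth P.hom := Groth.Agent.TorsFpqc.property_of_torsor @Smooth a hP inferInstance
  have : IsAffineHom G.hom := inferInstance
  have : IsAffineHom P.hom := Groth.Agent.TorsFpqc.property_of_torsor @IsAffineHom a hP inferInstance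
  have hGs : Surjective G.hom := ⟨fun s => ⟨(η[G] : 𝟙_ _ ⟶ G).left s, by
    rw [← Scheme.Hom.comp_apply, Over.w]; rfl⟩⟩
  have : Surjective P.hom := Groth.Agent.TorsFpqc.property_of_torsor @Surjective a hP hGs
  have : IsAffine P.left := isAffine_of_isAffineHom P.hom
  let c : Spec (CommRingCat.of R) ⟶ Spec (CommRingCat.of R⟦X⟧) :=
    Spec.map (CommRingCat.ofHom PowerSeries.constantCoeff)
  obtain ⟨R', i1, i2, het, hff, h, hh⟩ := exists_etale_cover R (pullback.snd P.hom c)
  refine ⟨R', i1, i2, het, hff, ?_⟩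
  let φ : CommRingCat.of R⟦X⟧ ⟶ Γ(P.left, ⊤) := Spec.preimage (P.left.isoSpec.inv ≫ P.hom)
  have hφ : Spec.map φ = P.left.isoSpec.inv ≫ P.hom := Spec.map_preimage _
  have hφs : φ.hom.Smooth := (HasRingHomProperty.Spec_iff (P := @Smooth)).1 (hφ ▸ inferInstance)
  let q : Γ(P.left, ⊤) ⟶ CommRingCat.of R' := Spec.preimage (h ≫ pullback.fst _ _ ≫ P.left.isoSpec.hom)
  have hq : φ ≫ q = CommRingCat.ofHom ((algebraMap R R').comp PowerSeries.constantCoeff) := by
    apply Spec.map_injective
    rw [Spec.map_comp, hφ, Spec.map_preimage, CommRingCat.ofHom_comp, Spec.map_comp, ← hh]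
    simp only [Category.assoc, Iso.hom_inv_id_assoc, pullback.condition]
    rfl
  let I : Ideal R'⟦X⟧ := Ideal.span {PowerSeries.X}
  have : IsAdicComplete I R'⟦X⟧ := isAdicComplete_X R'
  obtain ⟨ψ, hψ⟩ := exists_lift φ.hom hφs (PowerSeries.map (algebraMap R R')) I
    (((Ideal.Quotient.mk I).comp (PowerSeries.C : R' →+* R'⟦X⟧)).comp q.hom) (by
      refine RingHom.ext fun p => ?_
      have hp : q.hom (φ.hom p) = algebraMap R R' (PowerSeries.constantCoeff p) := ConcreteCategory.congr_hom hq p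
      simp only [RingHom.comp_apply, hp]
      rw [Ideal.Quotient.eq, Ideal.mem_span_singleton, PowerSeries.X_dvd_iff]
      rw [map_sub, PowerSeries.constantCoeff_C, sub_eq_zero, ← PowerSeries.coeff_zero_eq_constantCoeff_apply (PowerSeries.map (algebraMap R R') p),
        PowerSeries.coeff_map, PowerSeries.coeff_zero_eq_constantCoeff_apply])
  refine ⟨Spec.map (CommRingCat.ofHom ψ) ≫ P.left.isoSpec.inv, ?_⟩
  rw [Category.assoc, ← hφ, ← Spec.map_comp]
  congr 1
  exact CommRingCat.hom_ext hψ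

end TorsPSLib
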